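import Groth.Agent.SurfInt.Ideal
import Groth.Agent.ZeroSchX.Basic
import Groth.Agent.H23.PicMul
import Groth.Agent.S19456

/-!
The ideal of the zero scheme of a nonzero section is inverse to the invertible module.
-/

set_option linter.style.haveILetI false
set_option backward.isDefEq.respectTransparency false
set_option backward.isDefEq.respectTransparency.types false
set_option autoImplicit false

universe u

open CategoryTheory AlgebraicGeometry TopologicalSpace

namespace Groth.Agent.ThetaPow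

open Groth.Agent Groth.Agent.InvX Groth.Agent.AModX
open scoped Groth.Agent.H23.PicMul

variable {X : Scheme.{u}}

theorem isEffCartier_zeroScheme [IsIntegral X] {L : X.Modules} (hL : PicF.IsInvertible L)
    (s : Coh.structureModule X ⟶ L) (hs : s ≠ 0) : BlowUp.IsEffCartierIdeal (PicF2.zeroScheme L s) := by
  obtain ⟨D, hD, -⟩ := S19456.result X L hL s hs
  intro x
  obtain ⟨U, hxU, f, hf, hI, -⟩ := hD x
  haveI : Nonempty U.1 := ⟨⟨x, hxU⟩⟩
  refine ⟨U, hxU, f, mem_nonZeroDivisors_of_ne_zero fun h0 => ?_, hI⟩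
  have := hf ⟨x, hxU⟩
  subst h0
  exact nonZeroDivisors.ne_zero this (map_zero _)

/-- `idealMod (Z(s)) ⊗ L ≅ O` when the zero scheme is an effective Cartier divisor. -/
theorem nonempty_idealMod_zeroScheme' {L : X.Modules} (hL : PicF.IsInvertible L)
    (s : Coh.structureModule X ⟶ L) (hI : BlowUp.IsEffCartierIdeal (PicF2.zeroScheme L s)) :
    Nonempty (CohB1.tensorMod (ClSub.idealMod (PicF2.zeroScheme L s)) L ≅ Coh.structureModule X) := by
  classical
  set I := PicF2.zeroScheme L s
  have hdata : ∀ p : X, ∃ (V : X.affineOpens), p ∈ (V : X.Opens) ∧ ∃ (f : Γ(L, V.1)) (c : Γ(X, V.1))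
      (e : Γ(ClSub.idealMod I, V.1)), IsFrame f ∧ ZeroSchX.sv s V.1 = c • f ∧
        OmegaSh.idealSect I V.1 e = c ∧ IsFrame e := fun p => by
    obtain ⟨W, hpW, f, hf⟩ := InvX.exists_frame hL p
    obtain ⟨_, ⟨V, hV, rfl⟩, hpV, hVW⟩ := X.isBasis_affineOpens.exists_subset_of_mem_open hpW W.isOpen
    obtain ⟨c, hc⟩ := (hf V hVW).2 (ZeroSchX.sv s V)
    have hid : I.ideal ⟨V, hV⟩ = Ideal.span {c} := by
      rw [ZeroSchX.ideal_zeroScheme hL, ZeroSchX.zeroIdealOn_eq_span s (hf.res hVW) hc.symm]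
    obtain ⟨e, he⟩ := OmegaLib.exists_of_mem I ⟨V, hV⟩ c (hid ▸ Ideal.mem_span_singleton_self c)
    exact ⟨⟨V, hV⟩, hpV, _, c, e, hf.res hVW, hc.symm, he, SurfInt.isFrame_of_generator hI hid he⟩
  choose V hpV f c e hf hc hec he using hdata
  let N := CohB1.tensorMod (ClSub.idealMod I) L
  let one : ∀ p, Γ(Coh.structureModule X, (V p).1) := fun p =>
    show Γ(Coh.structureModule X, (V p).1) from (1 : Γ(X, (V p).1))
  let n : ∀ p, Γ(N, (V p).1) := fun p => InvX.tmul (e p) (f p)
  have hone : ∀ p, IsFrame (one p) := fun p => InvX.isFrame_one _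
  have hres1 : ∀ (p : X) (W : X.Opens) (h : W ≤ (V p).1),
      AModX.res (Coh.structureModule X) h (one p) = (show Γ(Coh.structureModule X, W) from (1 : Γ(X, W))) :=
    fun p W h => map_one (X.presheaf.map (homOfLE h).op).hom
  have hcomp : ∀ (a b : X) (W : X.Opens) (ha : W ≤ (V a).1) (hb : W ≤ (V b).1) (g : Γ(X, W)),
      AModX.res _ hb (one b) = g • AModX.res _ ha (one a) →
        AModX.res N hb (n b) = g • AModX.res N ha (n a) := by
    intro a b W ha hb g hg
    obtain rfl : g = 1 := (InvX.isFrame_one W).coord_unique le_rfl (by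
      rw [AModX.res_self, one_smul]
      exact ((hres1 b W hb).symm.trans (hg.trans (congrArg (g • ·) (hres1 a W ha)))).symm)
    rw [one_smul, InvX.res_tmul, InvX.res_tmul]
    obtain ⟨k, hk⟩ := (hf a W ha).2 (AModX.res L hb (f b))
    have hk' : AModX.res L hb (f b) = k • AModX.res L ha (f a) := hk.symm
    have h1 : AModX.resR ha (c a) = AModX.resR hb (c b) * k := by
      refine (hf a W ha).1 ?_
      show AModX.resR ha (c a) • AModX.res L ha (f a) = (AModX.resR hb (c b) * k) • AModX.res L ha (f a)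
      rw [mul_smul, ← hk', ← AModX.res_smul, ← AModX.res_smul, ← hc, ← hc]
      exact (ZeroSchX.res_sv s ha).trans (ZeroSchX.res_sv s hb).symm
    have hsect : ∀ (p : X) (h : W ≤ (V p).1),
        OmegaSh.idealSect I W (AModX.res _ h (e p)) = AModX.resR h (c p) := fun p h => by
      rw [← hec p]; exact OmegaLib.idealSect_map I h (e p)
    have h2 : AModX.res _ ha (e a) = k • AModX.res _ hb (e b) := OmegaLib.idealSect_injective I W (by
      rw [OmegaLib.idealSect_smul, hsect a ha, hsect b hb, h1, mul_comm])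
    rw [h2, hk', InvX.tmul_smul_left, InvX.tmul_smul_right]
  let φ : Coh.structureModule X ⟶ N := InvX.ofFrames (U := fun p => (V p).1) (e := one) (n := n)
    (fun x => ⟨x, hpV x⟩) hone hcomp
  haveI : IsIso φ := DivX.isIso_of_frames φ fun x =>
    ⟨(V x).1, hpV x, one x, hone x, by
      rw [show φ.app (V x).1 (one x) = n x from InvX.ofFrames_app _ _ _ x]
      exact InvX.isFrame_tmul (he x) (hf x)⟩
  exact ⟨(asIso φ).symm⟩

/-- `idealMod (Z(s)) ⊗ L ≅ O`. -/
theorem nonempty_idealMod_zeroScheme [IsIntegral X] {L : X.Modules} (hL : PicF.IsInvertible L)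
    (s : Coh.structureModule X ⟶ L) (hs : s ≠ 0) :
    Nonempty (CohB1.tensorMod (ClSub.idealMod (PicF2.zeroScheme L s)) L ≅ Coh.structureModule X) :=
  nonempty_idealMod_zeroScheme' hL s (isEffCartier_zeroScheme hL s hs)

/-- The class of the ideal of a power. -/
theorem cl_idealMod_pow {J : X.IdealSheafData} (hJ : BlowUp.IsEffCartierIdeal J) :
    ∀ m : ℕ, 0 < m → BlowUp.IsEffCartierIdeal (J ^ m) ∧
      PicF.cl (ClSub.idealMod (J ^ m)) = PicF.cl (ClSub.idealMod J) ^ m := by
  intro m hm
  induction m with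
  | zero => omega
  | succ m ih =>
    rcases Nat.eq_zero_or_pos m with rfl | h
    · rw [zero_add, pow_one, pow_one]; exact ⟨hJ, rfl⟩
    · obtain ⟨hJm, hcl⟩ := ih h
      rw [pow_succ, pow_succ]
      refine ⟨ModPairLib.isEffCartier_mul hJm hJ, ?_⟩
      rw [← hcl, ← H23.PicMul.cl_tensor]
      exact (PicGrp.cl_eq_cl_iff _ _).2 (SurfInt.nonempty_idealMod_mul hJm hJ)

end Groth.Agent.ThetaPow
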