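import Groth.Agent.DivX.CodimOne
import Groth.Agent.H23.RedSub
import Mathlib.RingTheory.UniqueFactorizationDomain.Basic
import Mathlib.AlgebraicGeometry.FunctionField

/-!
An effective Cartier ideal with irreducible support, at factorial local rings, is a power of the
ideal of its support.
-/

set_option linter.style.haveILetI false
set_option backward.isDefEq.respectTransparency false
set_option backward.isDefEq.respectTransparency.types false
set_option autoImplicit false

universe u

open CategoryTheory AlgebraicGeometry TopologicalSpace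

namespace Groth.Agent.ThetaPow

/-- In a factorial domain a principal ideal with prime radical is a power of that prime. -/
theorem exists_pow_of_radical_isPrime {S : Type u} [CommRing S] [IsDomain S] [UniqueFactorizationMonoid S]
    {c : S} (hc : c ≠ 0) (hP : (Ideal.span {c}).radical.IsPrime) :
    ∃ (π : S) (m : ℕ), Prime π ∧ (Ideal.span {c}).radical = Ideal.span {π} ∧
      Ideal.span {c} = Ideal.span {π} ^ m := by
  set P := (Ideal.span {c}).radical with hPdef
  obtain ⟨f, hf, u, hu⟩ := UniqueFactorizationMonoid.exists_prime_factors c hc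
  have hcP : c ∈ P := Ideal.le_radical (Ideal.mem_span_singleton_self c)
  have hle : ∀ q ∈ f, P ≤ Ideal.span {q} := fun q hq => by
    haveI : (Ideal.span {q}).IsPrime := (Ideal.span_singleton_prime (hf q hq).ne_zero).2 (hf q hq)
    refine (Ideal.IsPrime.radical_le_iff inferInstance).2 ((Ideal.span_singleton_le_iff_mem _).2 ?_)
    rw [Ideal.mem_span_singleton, ← hu]
    exact dvd_mul_of_dvd_left (Multiset.dvd_prod hq) _
  have hprod : f.prod ∈ P := by
    rw [← hu] at hcP
    exact (hP.mem_or_mem hcP).resolve_right fun h => hP.ne_top (P.eq_top_of_isUnit_mem h u.isUnit)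
  obtain ⟨π, hπf, hπP⟩ := (hP.multiset_prod_mem_iff_exists_mem f).1 hprod
  have heq : P = Ideal.span {π} := le_antisymm (hle π hπf) ((Ideal.span_singleton_le_iff_mem _).2 hπP)
  refine ⟨π, Multiset.card f, hf π hπf, heq, ?_⟩
  have hassoc : ∀ q ∈ f, Associated q π := fun q hq => by
    have h1 : q ∣ π := Ideal.mem_span_singleton.1 (hle q hq hπP)
    exact (hf q hq).associated_of_dvd (hf π hπf) h1
  have hprod' : ∀ g : Multiset S, (∀ q ∈ g, Associated q π) → Associated g.prod (π ^ Multiset.card g) := by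
    intro g
    induction g using Multiset.induction_on with
    | empty => intro _; simp
    | cons a s ih =>
      intro h
      rw [Multiset.prod_cons, Multiset.card_cons, pow_succ']
      exact (h a (Multiset.mem_cons_self a s)).mul_mul (ih fun q hq => h q (Multiset.mem_cons_of_mem hq))
  rw [Ideal.span_singleton_pow]
  refine Ideal.span_singleton_eq_span_singleton.2 (Associated.trans ?_ (hprod' f hassoc))
  exact Associated.symm (show Associated f.prod c from ⟨u, hu⟩)

variable {X : Scheme.{u}}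

/-- The ideal of an ideal sheaf in a local ring. -/
noncomputable def st (I : X.IdealSheafData) (U : X.affineOpens) (x : X) (hx : x ∈ U.1) : Ideal (X.presheaf.stalk x) :=
  (I.ideal U).map (X.presheaf.germ U.1 x hx).hom

theorem st_le (I : X.IdealSheafData) {U V : X.affineOpens} (h : V ≤ U) (x : X) (hx : x ∈ V.1) :
    st I V x hx = st I U x (h hx) := by
  rw [st, st, ← I.map_ideal h, Ideal.map_map, ← CommRingCat.hom_comp]
  erw [X.presheaf.germ_res]

theorem st_eq (I : X.IdealSheafData) (U V : X.affineOpens) (x : X) (hU : x ∈ U.1) (hV : x ∈ V.1) :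
    st I U x hU = st I V x hV := by
  obtain ⟨W, hW, hxW, hWle⟩ := exists_isAffineOpen_mem_and_subset (x := x) (U := U.1 ⊓ V.1) ⟨hU, hV⟩
  rw [← st_le I (V := ⟨W, hW⟩) (show (⟨W, hW⟩ : X.affineOpens) ≤ U from fun y hy => (hWle hy).1) x hxW,
    ← st_le I (V := ⟨W, hW⟩) (show (⟨W, hW⟩ : X.affineOpens) ≤ V from fun y hy => (hWle hy).2) x hxW]

theorem st_specializes (I : X.IdealSheafData) (U : X.affineOpens) {x ξ : X} (h : ξ ⤳ x) (hx : x ∈ U.1) :
    st I U ξ (h.mem_open U.1.2 hx) = (st I U x hx).map (X.presheaf.stalkSpecializes h).hom := by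
  rw [st, st, Ideal.map_map, ← CommRingCat.hom_comp, X.presheaf.germ_stalkSpecializes]

theorem mem_support_iff (I : X.IdealSheafData) (U : X.affineOpens) (x : X) (hx : x ∈ U.1) :
    x ∈ I.support ↔ I.ideal U ≤ (U.2.primeIdealOf ⟨x, hx⟩).asIdeal := by
  rw [Scheme.IdealSheafData.mem_support_iff_of_mem (U := U) hx, Scheme.mem_zeroLocus_iff]
  have key := fun a => Groth.Agent.QCoh.mem_basicOpen_iff_notMem U.2 hx a
  exact ⟨fun h a ha => by_contra fun hn => h a ha ((key a).2 hn), fun h a ha hya => (key a).1 hya (h ha)⟩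

theorem st_eq_top_iff (I : X.IdealSheafData) (U : X.affineOpens) (x : X) (hx : x ∈ U.1) :
    st I U x hx = ⊤ ↔ x ∉ I.support := by
  letI : Algebra Γ(X, U.1) (X.presheaf.stalk x) := (X.presheaf.germ U.1 x hx).hom.toAlgebra
  haveI : IsLocalization.AtPrime (X.presheaf.stalk x) (U.2.primeIdealOf ⟨x, hx⟩).asIdeal :=
    U.2.isLocalization_stalk ⟨x, hx⟩
  rw [mem_support_iff I U x hx]
  change (I.ideal U).map (algebraMap _ (X.presheaf.stalk x)) = ⊤ ↔ _
  rw [IsLocalization.map_algebraMap_ne_top_iff_disjoint (U.2.primeIdealOf ⟨x, hx⟩).asIdeal.primeCompl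
    (X.presheaf.stalk x) _ |>.not_right, Set.not_disjoint_iff, SetLike.not_le_iff_exists]
  exact ⟨fun ⟨a, ha, hb⟩ => ⟨a, hb, ha⟩, fun ⟨a, ha, hb⟩ => ⟨a, hb, ha⟩⟩

theorem st_pow (J : X.IdealSheafData) (m : ℕ) (U : X.affineOpens) (x : X) (hx : x ∈ U.1) :
    st (J ^ m) U x hx = st J U x hx ^ m := by
  rw [st, st, Scheme.IdealSheafData.ideal_pow, Pi.pow_apply, Ideal.map_pow]

theorem st_radical (I : X.IdealSheafData) (U : X.affineOpens) (x : X) (hx : x ∈ U.1) :
    st I.radical U x hx = (st I U x hx).radical := by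
  letI : Algebra Γ(X, U.1) (X.presheaf.stalk x) := (X.presheaf.germ U.1 x hx).hom.toAlgebra
  haveI : IsLocalization.AtPrime (X.presheaf.stalk x) (U.2.primeIdealOf ⟨x, hx⟩).asIdeal :=
    U.2.isLocalization_stalk ⟨x, hx⟩
  rw [st, st, Scheme.IdealSheafData.radical_ideal]
  exact IsLocalization.map_radical (U.2.primeIdealOf ⟨x, hx⟩).asIdeal.primeCompl (X.presheaf.stalk x) _

/-- An effective Cartier ideal with irreducible support is a power of the ideal of the support. -/
theorem exists_pow [IsIntegral X] [IsLocallyNoetherian X]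
    (hufd : ∀ x : X, IsDomain (X.presheaf.stalk x) ∧ UniqueFactorizationMonoid (X.presheaf.stalk x))
    (I : X.IdealSheafData) (hI : BlowUp.IsEffCartierIdeal I) [IrreducibleSpace ↥I.subscheme] :
    ∃ (J : X.IdealSheafData) (m : ℕ), BlowUp.IsEffCartierIdeal J ∧ IsReduced J.subscheme ∧ 0 < m ∧
      I = J ^ m := by
  classical
  let J := Scheme.IdealSheafData.vanishingIdeal I.support
  have hJ : J = I.radical := Scheme.IdealSheafData.vanishingIdeal_support
  have hJs : J.support = I.support := by rw [hJ, Scheme.IdealSheafData.support_radical]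
  haveI hJred : IsReduced J.subscheme := inferInstanceAs (IsReduced (Scheme.IdealSheafData.vanishingIdeal _).subscheme)
  have hirr : IsIrreducible (Set.range J.subschemeι) := by
    rw [Scheme.IdealSheafData.range_subschemeι, hJs, ← Scheme.IdealSheafData.range_subschemeι, ← Set.image_univ]
    exact (IrreducibleSpace.isIrreducible_univ _).image _ I.subschemeι.continuous.continuousOn
  haveI : IrreducibleSpace ↥J.subscheme := by
    haveI := Subtype.irreducibleSpace hirr
    exact (J.subschemeι.isEmbedding.toHomeomorph).irreducibleSpace_iff.2 inferInstance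
  haveI : IsIntegral J.subscheme := isIntegral_of_irreducibleSpace_of_isReduced _
  let ξ := J.subschemeι (genericPoint ↥J.subscheme)
  have hmem : ∀ y : X, y ∈ I.support ↔ y ∈ Set.range J.subschemeι := fun y => by
    rw [Scheme.IdealSheafData.range_subschemeι, hJs]; rfl
  have hξ : ξ ∈ I.support := (hmem ξ).2 ⟨_, rfl⟩
  have hsp : ∀ x, x ∈ I.support → ξ ⤳ x := fun x hx => by
    obtain ⟨z, rfl⟩ := (hmem x).1 hx
    exact (genericPoint_specializes z).map J.subschemeι.continuous
  have hprimeJ : ∀ (U : X.affineOpens) (x : X) (hx : x ∈ U.1), x ∈ I.support → (st J U x hx).IsPrime := by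
    intro U x hx hxs
    obtain ⟨z, hz⟩ := (hmem x).1 hxs
    haveI : Nonempty ↥(J.subschemeι ⁻¹ᵁ U.1) := ⟨⟨z, show J.subschemeι z ∈ U.1 from hz ▸ hx⟩⟩
    haveI : IsDomain Γ(J.subscheme, J.subschemeι ⁻¹ᵁ U.1) :=
      @IsIntegral.component_integral _ _ (J.subschemeι ⁻¹ᵁ U.1) ‹_›
    haveI hp : (J.ideal U).IsPrime := by
      rw [← Scheme.IdealSheafData.ker_subschemeι_app]; exact RingHom.ker_isPrime _
    letI : Algebra Γ(X, U.1) (X.presheaf.stalk x) := (X.presheaf.germ U.1 x hx).hom.toAlgebra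
    haveI : IsLocalization.AtPrime (X.presheaf.stalk x) (U.2.primeIdealOf ⟨x, hx⟩).asIdeal :=
      U.2.isLocalization_stalk ⟨x, hx⟩
    refine IsLocalization.isPrime_of_isPrime_disjoint (U.2.primeIdealOf ⟨x, hx⟩).asIdeal.primeCompl
      (X.presheaf.stalk x) (J.ideal U) hp (Set.disjoint_left.2 fun a ha haJ => ha ?_)
    exact (mem_support_iff J U x hx).1 (hJs.symm ▸ hxs) haJ
  -- local structure
  have hloc : ∀ (x : X), x ∈ I.support → ∀ (U : X.affineOpens) (hx : x ∈ U.1),
      ∃ (π : X.presheaf.stalk x) (n : ℕ), Prime π ∧ st J U x hx = Ideal.span {π} ∧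
        st I U x hx = Ideal.span {π} ^ n := by
    intro x hxs U hx
    obtain ⟨V, hxV, c, hc, hcV⟩ := hI x
    obtain ⟨hdom, hu⟩ := hufd x
    have hst : st I U x hx = Ideal.span {X.presheaf.germ V.1 x hxV c} := by
      rw [st_eq I U V x hx hxV, st, hcV, Ideal.map_span, Set.image_singleton]
    have hc0 : X.presheaf.germ V.1 x hxV c ≠ 0 := by
      haveI : Nonempty V.1 := ⟨⟨x, hxV⟩⟩
      exact (map_ne_zero_iff _ (germ_injective_of_isIntegral X x hxV)).2 (nonZeroDivisors.ne_zero hc)
    have hrad : st J U x hx = (Ideal.span {X.presheaf.germ V.1 x hxV c}).radical := by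
      rw [hJ, st_radical, hst]
    obtain ⟨π, n, hπ, h1, h2⟩ := exists_pow_of_radical_isPrime hc0 (hrad ▸ hprimeJ U x hx hxs)
    exact ⟨π, n, hπ, hrad.trans h1, hst.trans h2⟩
  obtain ⟨U₀, hξU₀, -⟩ := hI ξ
  obtain ⟨π₀, m, hπ₀, hJ₀, hI₀⟩ := hloc ξ hξ U₀ hξU₀
  have hm : 0 < m := by
    rcases Nat.eq_zero_or_pos m with rfl | h
    · rw [pow_zero, Ideal.one_eq_top] at hI₀
      exact absurd hξ ((st_eq_top_iff I U₀ ξ hξU₀).1 hI₀)
    · exact h
  have key : ∀ (U : X.affineOpens) (x : X) (hx : x ∈ U.1), st I U x hx = st (J ^ m) U x hx := by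
    intro U x hx
    rw [st_pow]
    by_cases hxs : x ∈ I.support
    swap
    · rw [(st_eq_top_iff I U x hx).2 hxs, (st_eq_top_iff J U x hx).2 (hJs.symm ▸ hxs), ← Ideal.one_eq_top,
        one_pow]
    obtain ⟨π, n, hπ, hJx, hIx⟩ := hloc x hxs U hx
    suffices n = m by rw [hIx, hJx, this]
    have h1 := st_specializes I U (hsp x hxs) hx
    rw [st_eq I U U₀ ξ _ hξU₀, hI₀, hIx, Ideal.map_pow] at h1
    have h2 := st_specializes J U (hsp x hxs) hx
    rw [st_eq J U U₀ ξ _ hξU₀, hJ₀, hJx] at h2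
    rw [← h2] at h1
    obtain ⟨hdom, -⟩ := hufd ξ
    rw [Ideal.span_singleton_pow, Ideal.span_singleton_pow] at h1
    have h3 : Associated (π₀ ^ m) (π₀ ^ n) := Ideal.span_singleton_eq_span_singleton.1 h1
    exact le_antisymm ((pow_dvd_pow_iff hπ₀.ne_zero hπ₀.not_isUnit).1 h3.symm.dvd)
      ((pow_dvd_pow_iff hπ₀.ne_zero hπ₀.not_isUnit).1 h3.dvd)
  refine ⟨J, m, ?_, hJred, hm, Scheme.IdealSheafData.ext (funext fun U => ?_)⟩
  · intro x
    obtain ⟨_, ⟨U, hU, rfl⟩, hxU, -⟩ :=
      X.isBasis_affineOpens.exists_subset_of_mem_open (Set.mem_univ x) isOpen_univ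
    have hU' : IsAffineOpen U := hU
    haveI : IsNoetherianRing Γ(X, U) := IsLocallyNoetherian.component_noetherian ⟨U, hU'⟩
    set p := (hU'.primeIdealOf ⟨x, hxU⟩).asIdeal with hp
    suffices H : ∃ a : Γ(X, U), a ∉ p ∧ ∃ g : Γ(X, U), ∀ (S : Type u) [CommRing S] [Algebra Γ(X, U) S]
        [IsLocalization.Away a S], (J.ideal ⟨U, hU'⟩).map (algebraMap Γ(X, U) S) = Ideal.span {algebraMap Γ(X, U) S g} ∧
          algebraMap Γ(X, U) S g ∈ nonZeroDivisors S by
      obtain ⟨a, ha, g, hg⟩ := H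
      have hxa : x ∈ X.basicOpen a := (Groth.Agent.QCoh.mem_basicOpen_iff_notMem hU' hxU a).2 ha
      haveI := hU'.isLocalization_basicOpen a
      obtain ⟨h1, h2⟩ := hg Γ(X, X.basicOpen a)
      refine ⟨X.affineBasicOpen (U := ⟨U, hU'⟩) a, hxa, _, h2, ?_⟩
      rw [← J.map_ideal_basicOpen ⟨U, hU'⟩ a]
      exact h1
    by_cases hxs : x ∈ I.support
    · obtain ⟨π, n, hπ, hJx, -⟩ := hloc x hxs ⟨U, hU'⟩ hxU
      obtain ⟨hdom, -⟩ := hufd x
      letI : Algebra Γ(X, U) (X.presheaf.stalk x) := (X.presheaf.germ U x hxU).hom.toAlgebra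
      haveI : IsLocalization.AtPrime (X.presheaf.stalk x) p := hU'.isLocalization_stalk ⟨x, hxU⟩
      have hJx' : (J.ideal ⟨U, hU'⟩).map (algebraMap Γ(X, U) (X.presheaf.stalk x)) = Ideal.span {π} := hJx
      obtain ⟨⟨⟨g, hgJ⟩, w⟩, hgw⟩ := (IsLocalization.mem_map_algebraMap_iff p.primeCompl (X.presheaf.stalk x)).1
        (hJx' ▸ Ideal.mem_span_singleton_self π)
      have hspan : Ideal.span {algebraMap Γ(X, U) (X.presheaf.stalk x) g} = Ideal.span {π} := by
        rw [← hgw, Ideal.span_singleton_mul_right_unit (IsLocalization.map_units _ w)]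
      obtain ⟨a, ha, hA⟩ := DivX.exists_gen_away (J.ideal ⟨U, hU'⟩) p (X.presheaf.stalk x) g (fun h0 => by
        rw [h0, Ideal.span_singleton_zero] at hspan
        exact hπ.ne_zero (Ideal.span_singleton_eq_bot.1 hspan.symm)) hgJ (hJx'.trans hspan.symm)
      exact ⟨a, ha, g, hA⟩
    · obtain ⟨a, haJ, hap⟩ := SetLike.not_le_iff_exists.1
        (fun h => hxs (hJs ▸ (mem_support_iff J ⟨U, hU'⟩ x hxU).2 h))
      refine ⟨a, hap, 1, fun S _ _ _ => ⟨?_, by rw [map_one]; exact one_mem _⟩⟩
      rw [map_one, Ideal.span_singleton_one, Ideal.eq_top_iff_one]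
      obtain ⟨b, hb⟩ := (IsLocalization.Away.algebraMap_isUnit (S := S) a).exists_left_inv
      rw [← hb]
      exact Ideal.mul_mem_left _ _ (Ideal.mem_map_of_mem _ haJ)
  · exact U.2.ideal_ext_iff.2 fun x hx => key U x hx

end Groth.Agent.ThetaPow
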